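import Cfsg.Agent.H814.O8P.Num
import Cfsg.Agent.H814.EP.RowA9
import Cfsg.Agent.H839.EP.AltTen
import Cfsg.Agent.H342.O8.ATen
import Cfsg.Agent.H887.OmegaBridge
import Cfsg.Agent.S2119

/-!
# S3499, row `PΩ₈⁺(q)`: the socles `A₉` and `A₁₀`, every `q` (helper814)

* `a9`  : `HasSoc A A₉` is impossible;
* `a10` : `Soc P ≃* A₁₀` is impossible (`hBr` : S1000).
-/

set_option autoImplicit false
set_option linter.unusedSectionVars false

namespace Cfsg.Agent.H814.O8P

open Subgroup Cfsg Cfsg.Geo Cfsg.Agent.H284 Cfsg.Agent.H419.EP Cfsg.Agent.H915.LD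
open scoped MatrixGroups

variable {Q : Type} [Group Q] [Finite Q] {A : Subgroup Q} {Γ : Subgroup (MulAut Q)}
variable {F : Type} [Field F] [Fintype F] {ι : Type} [Fintype ι] [DecidableEq ι] {Qf : (ι → F) → F}

/-- **`A₉`** -/
theorem a9 (h : EPT A Γ) (hQ : IsNondegenerateQuadraticForm Qf) (hpl : IsPlusTypeOn Qf ⊤) (hn : Fintype.card ι = 8)
    (m : Model Q (omegaGL Qf)) (hS : HasSoc A (alternatingGroup (Fin 9))) : False := by
  have hcA : Nat.card A = 362880 ∨ Nat.card A = 181440 := by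
    obtain ⟨N, h1, h2, h3, ⟨e⟩⟩ := hS
    exact H814.EP9.card_A h ⟨h1, h2, h3⟩ e
  have h1 := A.card_mul_index
  obtain ⟨k, hk⟩ := dvd_card hQ hpl hn m
  have hev : Even A.index := by
    rw [Nat.even_iff]
    rw [hk] at h1
    rcases hcA with hA | hA <;> rw [hA] at h1 <;> norm_num at h1 <;> omega
  have h2 := H814.EP9.index_le_of_hasSoc h hS hev
  have hF : 2 ≤ Fintype.card F := Fintype.one_lt_card
  rcases (show Fintype.card F = 2 ∨ 3 ≤ Fintype.card F by omega) with hF2 | hF3
  · exact H814.EP9.row_hasSoc h hS (Or.inr (card_two hQ hpl hn m hF2))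
  · exact false_of_bound hQ hpl hn m hF3 (a := 362880) (b := 512) (by omega) h2 (by norm_num [N8])

/-- **`A₁₀`** -/
theorem a10 (hBr : H839.EP.Br) (p : ℕ) [hp : Fact p.Prime] [CharP F p] (h : EPT A Γ)
    (hQ : IsNondegenerateQuadraticForm Qf) (hpl : IsPlusTypeOn Qf ⊤) (hn : Fintype.card ι = 8)
    (m : Model Q (omegaGL Qf)) {P : Subgroup (GL ι F)} (hP : IsResidualCore (m.hat A) P)
    (e : Soc P ≃* alternatingGroup (Fin 10)) : False := by
  have hC := core_of_residual hP
  have hfix : FixesQuadForm (matrixSet P) Qf := by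
    rintro s ⟨g, hg, rfl⟩ v
    have h1 : g ∈ omegaGL Qf := m.hat_le A (hP.le hg)
    rw [Cfsg.Agent.H887.OmegaBridge.omegaGL_eq] at h1
    exact Cfsg.Agent.H887.OmegaBridge.mem_isometryGroup.1 (Subgroup.commutator_le_self _ h1) v
  have hS : HasSoc A (alternatingGroup (Fin 10)) := (hasSoc_of_core m hP).congr e
  have h25 : p = 2 ∨ p = 5 := by
    rcases H614.AMod.Main.alt_cases hC p e (by norm_num) (by omega) (by norm_num) with h1 | h1 | h1
    · rcases h1.dim hC (by norm_num) p with ⟨-, h2⟩ | ⟨h2, -⟩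
      · omega
      · have h3 : p ≤ 10 := Nat.le_of_dvd (by norm_num) h2
        have h4 := hp.out
        interval_cases p <;> first | omega | (exfalso; revert h4; norm_num)
    · have := h1.m9
      omega
    · rcases h1.2.1 with h2 | h2 | h2
      · omega
      · omega
      · exact Or.inr h2.2
  rcases h25 with rfl | rfl
  · exact H342.EP8.no_a10 hn hC e hQ hfix
  · have h5 : 5 ≤ Fintype.card F := by
      obtain ⟨k, -, hk⟩ := FiniteField.card F 5
      rw [hk]
      exact Nat.le_self_pow k.ne_zero 5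
    have hidx : A.index ≤ 2 ^ 34 := by
      obtain ⟨N, h1, h2, h3, ⟨f⟩⟩ := hS
      exact H839.EP.index_le_of_socle_ten hBr h ⟨h1, h2, h3⟩ f
    have hA : Nat.card A ≤ 3628800 := by
      refine hS.card_le.trans ?_
      have hb := Cfsg.Agent.S2119.result 10 (by norm_num) (by norm_num)
      rw [← Nat.card_congr (Equiv.ofBijective _ hb), Nat.card_eq_fintype_card, Fintype.card_perm, Fintype.card_fin]
      decide
    exact false_of_bound hQ hpl hn m h5 hA hidx (by norm_num [N8])

end Cfsg.Agent.H814.O8P
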