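import Cfsg.Agent.H419.EP.Soc
import Cfsg.Agent.H473.TR.Om
import Cfsg.Agent.H775.EP.ModelOmega
import Cfsg.Agent.H36.EPL.Bound
import Cfsg.Agent.H59.EP.UBGen
import Cfsg.Agent.H173.EP.LineBound
import Cfsg.Agent.S0293

/-!
# S3499, row `PΩ₈⁺(q)`: orders and index bounds (helper814)
-/

set_option autoImplicit false
set_option linter.unusedSectionVars false

namespace Cfsg.Agent.H814.O8P

open Subgroup Cfsg Cfsg.Geo Cfsg.Agent.H284 Cfsg.Agent.H419.EP Cfsg.Agent.H59.EP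
open scoped MatrixGroups

/-- the order polynomial of `Ω₈⁺` -/
def N8 (q : ℕ) : ℕ := q ^ 12 * (q ^ 4 - 1) * ((q ^ 2 - 1) * (q ^ 4 - 1) * (q ^ 6 - 1))

theorem N8_mono {a b : ℕ} (h : a ≤ b) : N8 a ≤ N8 b := by
  unfold N8
  have key : ∀ n, a ^ n - 1 ≤ b ^ n - 1 := fun n => Nat.sub_le_sub_right (Nat.pow_le_pow_left h n) 1
  exact Nat.mul_le_mul (Nat.mul_le_mul (Nat.pow_le_pow_left h 12) (key 4))
    (Nat.mul_le_mul (Nat.mul_le_mul (key 2) (key 4)) (key 6))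

section Order

variable {Q : Type*} [Group Q] {ι : Type} [Fintype ι] [DecidableEq ι] {F : Type*} [Field F] [Fintype F]
  {Qf : (ι → F) → F}

/-- **The order of `PΩ₈⁺(q)`.** -/
theorem card_o8 (hQ : IsNondegenerateQuadraticForm Qf) (hp : IsPlusTypeOn Qf ⊤) (hn : Fintype.card ι = 8)
    (m : Model Q (omegaGL Qf)) :
    Nat.gcd 4 (Fintype.card F ^ 4 - 1) * Nat.card Q = N8 (Fintype.card F) := by
  obtain ⟨m₁, -⟩ := H473.TR.tr_plus hQ m (k := 4) (by rw [hn]) hp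
  obtain ⟨m₂⟩ := H775.EP.model_plus 4 (by norm_num) F
  obtain ⟨e⟩ := H36.EPL.model_equiv m₁ m₂
  rw [Nat.card_congr e.toEquiv, Cfsg.Agent.S0293.result (F := F) rfl 4 le_rfl]
  unfold N8
  rw [show 4 - 1 = 3 by norm_num, Finset.prod_range_succ, Finset.prod_range_succ, Finset.prod_range_succ,
    Finset.prod_range_zero, one_mul]

theorem card_ge (hQ : IsNondegenerateQuadraticForm Qf) (hp : IsPlusTypeOn Qf ⊤) (hn : Fintype.card ι = 8)
    (m : Model Q (omegaGL Qf)) {q₀ : ℕ} (hq : q₀ ≤ Fintype.card F) : N8 q₀ ≤ 4 * Nat.card Q := by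
  refine (N8_mono hq).trans ?_
  rw [← card_o8 hQ hp hn m]
  exact Nat.mul_le_mul_right _ (Nat.gcd_le_left _ (by norm_num))

theorem card_two (hQ : IsNondegenerateQuadraticForm Qf) (hp : IsPlusTypeOn Qf ⊤) (hn : Fintype.card ι = 8)
    (m : Model Q (omegaGL Qf)) (hF : Fintype.card F = 2) : Nat.card Q = 174182400 := by
  have h := card_o8 hQ hp hn m
  rw [hF] at h
  have h1 : Nat.gcd 4 (2 ^ 4 - 1) = 1 := by decide
  have h2 : N8 2 = 174182400 := by norm_num [N8]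
  rw [h1, h2, one_mul] at h
  exact h

theorem card_three (hQ : IsNondegenerateQuadraticForm Qf) (hp : IsPlusTypeOn Qf ⊤) (hn : Fintype.card ι = 8)
    (m : Model Q (omegaGL Qf)) (hF : Fintype.card F = 3) : Nat.card Q = 4952179814400 := by
  have h := card_o8 hQ hp hn m
  rw [hF] at h
  have h1 : Nat.gcd 4 (3 ^ 4 - 1) = 4 := by decide
  have h2 : N8 3 = 4 * 4952179814400 := by norm_num [N8]
  rw [h1, h2] at h
  exact Nat.eq_of_mul_eq_mul_left (by norm_num) h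

theorem gcd_even {q : ℕ} (hq1 : 1 < q) (he : Even q) : Nat.gcd 4 (q ^ 4 - 1) = 1 := by
  have h2 : Odd (q ^ 4 - 1) := by
    have h3 : Even (q ^ 4) := he.pow_of_ne_zero (by norm_num)
    obtain ⟨c, hc⟩ := h3
    have : 0 < q ^ 4 := pow_pos (by omega) 4
    exact ⟨c - 1, by omega⟩
  have h3 : Nat.Coprime (2 ^ 2) (q ^ 4 - 1) := Nat.Coprime.pow_left 2 (Nat.coprime_two_left.2 h2)
  exact h3

theorem card_even (hQ : IsNondegenerateQuadraticForm Qf) (hp : IsPlusTypeOn Qf ⊤) (hn : Fintype.card ι = 8)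
    (m : Model Q (omegaGL Qf)) (he : Even (Fintype.card F)) : Nat.card Q = N8 (Fintype.card F) := by
  have h := card_o8 hQ hp hn m
  rwa [gcd_even Fintype.one_lt_card he, one_mul] at h

/-- `|Q|` is divisible by `2 ^ 12`, in particular by `2 ^ 8` -/
theorem dvd_card (hQ : IsNondegenerateQuadraticForm Qf) (hp : IsPlusTypeOn Qf ⊤) (hn : Fintype.card ι = 8)
    (m : Model Q (omegaGL Qf)) : 2 ^ 8 ∣ Nat.card Q := by
  have h := card_o8 hQ hp hn m
  set q := Fintype.card F with hq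
  have hq1 : 1 < q := Fintype.one_lt_card
  rcases Nat.even_or_odd q with he | ho
  · rw [gcd_even hq1 he, one_mul] at h
    rw [h]
    unfold N8
    refine Dvd.dvd.mul_right (Dvd.dvd.mul_right ?_ _) _
    exact (pow_dvd_pow 2 (by norm_num : 8 ≤ 12)).trans (pow_dvd_pow_of_dvd he.two_dvd 12)
  · -- `8 ∣ q ^ 2 - 1`, `16 ∣ q ^ 4 - 1`
    have h8 : 8 ∣ q ^ 2 - 1 := by
      obtain ⟨k, hk⟩ := ho
      obtain ⟨c, hc⟩ := (Nat.even_mul_succ_self k).two_dvd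
      refine ⟨c, ?_⟩
      have h4 : q ^ 2 = 4 * (k * (k + 1)) + 1 := by rw [hk]; ring
      rw [h4, hc]
      omega
    have h4 : 8 ∣ q ^ 4 - 1 := by
      have h5 : q ^ 4 - 1 = (q ^ 2 - 1) * (q ^ 2 + 1) := by
        have h6 : 1 ≤ q ^ 2 := Nat.one_le_pow _ _ (by omega)
        obtain ⟨c, hc⟩ : ∃ c, q ^ 2 = c + 1 := ⟨q ^ 2 - 1, by omega⟩
        have h7 : q ^ 4 = (c + 1) * (c + 1) := by rw [← hc]; ring
        rw [h7, hc, Nat.add_sub_cancel]
        have : (c + 1) * (c + 1) = c * (c + 1 + 1) + 1 := by ring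
        omega
      rw [h5]
      exact h8.mul_right _
    have h6 : 8 ∣ q ^ 6 - 1 := by
      have h7 : q ^ 6 - 1 = (q ^ 2 - 1) * (q ^ 4 + q ^ 2 + 1) := by
        have h6 : 1 ≤ q ^ 2 := Nat.one_le_pow _ _ (by omega)
        obtain ⟨c, hc⟩ : ∃ c, q ^ 2 = c + 1 := ⟨q ^ 2 - 1, by omega⟩
        have e6 : q ^ 6 = (c + 1) * (c + 1) * (c + 1) := by rw [← hc]; ring
        have e4 : q ^ 4 = (c + 1) * (c + 1) := by rw [← hc]; ring
        rw [e6, e4, hc, Nat.add_sub_cancel]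
        have : (c + 1) * (c + 1) * (c + 1) = c * ((c + 1) * (c + 1) + (c + 1) + 1) + 1 := by ring
        omega
      rw [h7]
      exact h8.mul_right _
    have h9 : 8 * 8 * (8 * 8) ∣ N8 q := by
      unfold N8
      have e : q ^ 12 * (q ^ 4 - 1) * ((q ^ 2 - 1) * (q ^ 4 - 1) * (q ^ 6 - 1)) =
          q ^ 12 * (((q ^ 4 - 1) * (q ^ 2 - 1)) * ((q ^ 4 - 1) * (q ^ 6 - 1))) := by ring
      rw [e]
      exact Dvd.dvd.mul_left (Nat.mul_dvd_mul (Nat.mul_dvd_mul h4 h8) (Nat.mul_dvd_mul h4 h6)) _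
    rw [← h] at h9
    have h10 : Nat.gcd 4 (q ^ 4 - 1) = 4 := Nat.gcd_eq_left ((by norm_num : 4 ∣ 8).trans h4)
    rw [h10] at h9
    have h11 : 4 * (2 ^ 10) ∣ 4 * Nat.card Q := by norm_num at h9 ⊢; exact h9
    exact (pow_dvd_pow 2 (by norm_num : 8 ≤ 10)).trans (Nat.dvd_of_mul_dvd_mul_left (by norm_num) h11)

end Order

section Kill

variable {Q : Type} [Group Q] [Finite Q] {A : Subgroup Q} {Γ : Subgroup (MulAut Q)}
variable {F : Type} [Field F] [Fintype F] {ι : Type} [Fintype ι] [DecidableEq ι] {Qf : (ι → F) → F}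

theorem dvd_aut {L : Type*} [Group L] [Finite L] (h : HasSoc A L) : Nat.card A ∣ Nat.card (MulAut L) := by
  obtain ⟨f, hf⟩ := h.exists_hom
  rw [Nat.card_congr (MonoidHom.ofInjective hf).toEquiv]
  exact Subgroup.card_subgroup_dvd_card _

/-- contradiction from `|A| ≤ a`, `|Q : A| ≤ b` -/
theorem false_of_bound (hQ : IsNondegenerateQuadraticForm Qf) (hp : IsPlusTypeOn Qf ⊤) (hn : Fintype.card ι = 8)
    (m : Model Q (omegaGL Qf)) {q₀ a b : ℕ} (hq : q₀ ≤ Fintype.card F) (ha : Nat.card A ≤ a) (hb : A.index ≤ b)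
    (hnum : 4 * (a * b) < N8 q₀) : False := by
  have h1 := card_ge hQ hp hn m hq
  rw [← A.card_mul_index] at h1
  have h2 := Nat.mul_le_mul_left 4 (Nat.mul_le_mul ha hb)
  omega

/-- the general index bound, `|A|` divides the number with factorisation `l` -/
theorem index_le (hg : TwoGen.{0}) (hs : IsSimpleGroup Q) (h : EPT A Γ) {L : Type*} [Group L] [Finite L]
    (hL : IsSimpleGroup L) (hLn : ¬ ∀ a b : L, a * b = b * a) (hS : HasSoc A L) {N : ℕ}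
    (hN : Nat.card (MulAut L) ∣ N) (hN0 : N ≠ 0) (l : List (ℕ × ℕ)) (h1 : ∀ x ∈ l, x.1.Prime ∧ 0 < x.2)
    (h2 : (l.map Prod.fst).Nodup)
    (hl : N = (l.map fun x => x.1 ^ x.2).prod) (hB : N < 60 ^ 61) {b : ℕ}
    (hb : 1 + ((l.map fun x => gal x.1 x.2).sum * (N / 6) + N ^ 2 / 60 + N ^ 3 / 12744000) * (2 * (N / 6)) ≤ b) :
    A.index ≤ b := by
  have hd := (dvd_aut hS).trans hN
  have hab : ∀ K : Subgroup Q, K ≤ A → (∀ a ∈ A, ∀ k ∈ K, a * k * a⁻¹ ∈ K) → (∀ a ∈ K, ∀ b ∈ K, a * b = b * a) →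
      K = ⊥ := fun K k1 k2 k3 => hS.no_abelian hL hLn k1 k2 k3
  have h3 := EPT.ncard_le_gen_dvd h hg hab l h1 h2 (by rw [← hl]; exact hd) (by rw [← hl]; exact hB)
  rw [← hl] at h3
  refine index_le_of h3 (H173.EP.ub1 hs h (by norm_num) fun _ hx => EPT.six_le h hab hx) (le_trans ?_ hb)
  refine Nat.add_le_add_left (Nat.mul_le_mul_left _ (Nat.mul_le_mul_left _ (Nat.div_le_div_right ?_))) 1
  exact Nat.le_of_dvd (Nat.pos_of_ne_zero hN0) hd

/-- **the general kill** -/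
theorem kill (hg : TwoGen.{0}) (hs : IsSimpleGroup Q) (h : EPT A Γ) (hQ : IsNondegenerateQuadraticForm Qf)
    (hp : IsPlusTypeOn Qf ⊤) (hn : Fintype.card ι = 8) (m : Model Q (omegaGL Qf)) {L : Type*} [Group L] [Finite L]
    (hL : IsSimpleGroup L) (hLn : ¬ ∀ a b : L, a * b = b * a) (hS : HasSoc A L) {N : ℕ}
    (hN : Nat.card (MulAut L) ∣ N) (hN0 : N ≠ 0) (l : List (ℕ × ℕ)) (h1 : ∀ x ∈ l, x.1.Prime ∧ 0 < x.2)
    (h2 : (l.map Prod.fst).Nodup) (hl : N = (l.map fun x => x.1 ^ x.2).prod) (hB : N < 60 ^ 61) {q₀ : ℕ}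
    (hq : q₀ ≤ Fintype.card F)
    (hnum : 4 * (N * (1 + ((l.map fun x => gal x.1 x.2).sum * (N / 6) + N ^ 2 / 60 + N ^ 3 / 12744000) *
      (2 * (N / 6)))) < N8 q₀) : False :=
  false_of_bound hQ hp hn m hq (Nat.le_of_dvd (Nat.pos_of_ne_zero hN0) ((dvd_aut hS).trans hN))
    (index_le hg hs h hL hLn hS hN hN0 l h1 h2 hl hB le_rfl) hnum

end Kill

end Cfsg.Agent.H814.O8P
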