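import Cfsg.Agent.H814.O8P.RowL
import Cfsg.Agent.H84.EP.Sp56
import Cfsg.Agent.H476.EPX.TD4Fin
import Cfsg.Agent.H286.EP.KillAll
import Cfsg.Agent.H59.EP.UBFin
import Cfsg.Agent.S1000
import Cfsg.Agent.S0000
import Cfsg.Agent.H621.EP.SevEnd

/-!
# S3499, the row `PΩ₈⁺(q)` without hypotheses (helper814)
-/

set_option autoImplicit false

namespace Cfsg.Agent.H814.O8P

open Cfsg Cfsg.Geo Cfsg.Agent.H419.EP Cfsg.Agent.H284

theorem killTD : KillTD := by
  intro Q _ _ A Γ h F _ _ Qf nd m q₀ hq K _ _ hK hF hS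
  exact H476.EPX.no_td4' h nd m hq hK hF hS (MulEquiv.refl _)

theorem killO8 : H1.EP8.KillO8 := by
  intro Q _ _ A Γ h hS F _ _ ho e
  exact H286.EP.kill_odd h hS ho e

theorem killOm : KillOm := by
  intro Q _ _ _ A Γ h F _ _ Qf nd plus m K _ _ a b hab hK hF hS
  exact H621.EP.Sev.o8half (fun _ _ _ _ => Cfsg.Agent.S0000.result) h m nd plus a b hab hK hF hS

/-- **the row `PΩ₈⁺(q)`** -/
theorem rowPlus_eight : H982.EP.RowPlus 8 :=
  rowPlus_eight_of H59.EP.twoGen H84.EP.res56 Cfsg.Agent.S1000.result killO8 killTD killOm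
    (fun _ _ _ _ => Cfsg.Agent.S0000.result)

end Cfsg.Agent.H814.O8P
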