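import Cfsg.Agent.H814.O8P.Num
import Cfsg.Agent.H814.O8P.Fld
import Cfsg.Agent.H917.OmOwn
import Cfsg.Agent.H284.EPO.Fam
import Cfsg.Agent.H419.EP.Filt
import Cfsg.Agent.H682.EP.L2Cube
import Cfsg.Agent.H682.EP.SURow
import Cfsg.Agent.H689.EP.L27Row
import Cfsg.Agent.H2.Rb.Psp
import Cfsg.Agent.S0293
import Cfsg.Agent.S0294
import Cfsg.Agent.S0255

/-!
# S3499, row `PΩ₈⁺(q)`: own characteristic (helper814)
-/

set_option autoImplicit false
set_option linter.unusedSectionVars false

namespace Cfsg.Agent.H814.O8P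

open Cfsg Cfsg.Geo Module Matrix Cfsg.Agent.H915.LD Cfsg.Agent.H419.EP Cfsg.Agent.H284
open scoped MatrixGroups

variable {Q : Type} [Group Q] [Finite Q] {A : Subgroup Q} {Γ : Subgroup (MulAut Q)}
variable {F : Type} [Field F] [Fintype F] {Qf : (Fin 8 → F) → F}

/-- `4 q¹⁷ < N8 q` -/
theorem lt_N8 {q : ℕ} (hq : 2 ≤ q) : 4 * q ^ 17 < N8 q := by
  have h1 : q ≤ q ^ 2 - 1 := by
    have : q * 2 ≤ q * q := Nat.mul_le_mul_left q hq
    have h : q ^ 2 = q * q := sq q
    omega
  have h2 : q ^ 3 ≤ q ^ 4 - 1 := by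
    have : q ^ 3 * 2 ≤ q ^ 3 * q := Nat.mul_le_mul_left _ hq
    have h : q ^ 4 = q ^ 3 * q := by ring
    have h' : 1 ≤ q ^ 3 := Nat.one_le_pow _ _ (by omega)
    omega
  have h3 : q ^ 5 ≤ q ^ 6 - 1 := by
    have : q ^ 5 * 2 ≤ q ^ 5 * q := Nat.mul_le_mul_left _ hq
    have h : q ^ 6 = q ^ 5 * q := by ring
    have h' : 1 ≤ q ^ 5 := Nat.one_le_pow _ _ (by omega)
    omega
  have h4 : q ^ 12 * q ^ 3 * (q * q ^ 3 * q ^ 5) ≤ N8 q :=
    Nat.mul_le_mul (Nat.mul_le_mul_left _ h2) (Nat.mul_le_mul (Nat.mul_le_mul h1 h2) h3)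
  refine lt_of_lt_of_le ?_ h4
  have h5 : q ^ 12 * q ^ 3 * (q * q ^ 3 * q ^ 5) = q ^ 7 * q ^ 17 := by ring
  rw [h5]
  refine Nat.mul_lt_mul_of_pos_right ?_ (pow_pos (by omega) 17)
  calc 4 < 2 ^ 7 := by norm_num
    _ ≤ q ^ 7 := Nat.pow_le_pow_left hq 7

/-- `A` is smaller than `Q` -/
theorem card_lt_of_hasSoc (h : EPT A Γ) {L : Type*} [Group L] (hS : HasSoc A L) : Nat.card L < Nat.card Q := by
  have h1 : Nat.card L ≤ Nat.card A := Nat.le_of_dvd Nat.card_pos hS.card_dvd
  refine lt_of_le_of_lt h1 ?_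
  rw [← A.card_mul_index]
  have h2 : A.index ≠ 1 := fun h2 => h.max.1 (Subgroup.index_eq_one.1 h2)
  have h3 : A.index ≠ 0 := Subgroup.index_ne_zero_of_finite
  have h4 : 0 < Nat.card A := Nat.card_pos
  nlinarith [show 2 ≤ A.index by omega]

theorem card_F_of_pow {q j : ℕ} (h : q ^ j = 2) : q = 2 := by
  have hj : j ≠ 0 := by rintro rfl; simp at h
  have h1 : q ∣ 2 := by rw [← h]; exact dvd_pow_self q hj
  rcases (Nat.dvd_prime Nat.prime_two).1 h1 with h2 | h2
  · rw [h2, one_pow] at h; omega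
  · exact h2

theorem card_F_of_pow4 {q j : ℕ} (h : q ^ j = 4) : q = 2 ∨ q = 4 := by
  have hj : j ≠ 0 := by rintro rfl; simp at h
  have h1 : q ∣ 4 := by rw [← h]; exact dvd_pow_self q hj
  have h2 : q ≤ 4 := Nat.le_of_dvd (by norm_num) h1
  interval_cases q
  · rw [zero_pow hj] at h; omega
  · rw [one_pow] at h; omega
  · exact Or.inl rfl
  · omega
  · exact Or.inr rfl

/-- **own characteristic** -/
theorem own (p : ℕ) [hp : Fact p.Prime] [CharP F p] (hg : Cfsg.Agent.H59.EP.TwoGen.{0}) (hs : IsSimpleGroup Q)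
    (h : EPT A Γ) (m : Model Q (omegaGL Qf)) (hQ : IsNondegenerateQuadraticForm Qf) (hpl : IsPlusTypeOn Qf ⊤)
    {P : Subgroup (GL (Fin 8) F)} (hP : IsResidualCore (m.hat A) P) (hL : IsLieTypeChar p (Soc P))
    (hTD : ∀ {K : Type} [Field K] [Fintype K] {q₀ : ℕ}, IsPrimePow q₀ → Fintype.card K = q₀ ^ 3 →
      Fintype.card F = q₀ ^ 3 → HasSoc A (Lie.twistedD4 K q₀) → False)
    (hSp : ∀ {K : Type} [Field K] [Fintype K], Fintype.card K = 2 → Fintype.card F = 2 → HasSoc A (PSp 3 K) → False)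
    (hOm : ∀ {K : Type} [Field K] [Fintype K] (a b : K),
      (∀ z₁ z₂ : K, z₁ ^ 2 + a * z₁ * z₂ + b * z₂ ^ 2 = 0 → z₁ = 0 ∧ z₂ = 0) → Fintype.card K = 2 →
      Fintype.card F = 4 → HasSoc A (POmega K (quadFormMinus 3 K a b)) → False) : False := by
  have hC := core_of_residual hP
  have hsC := hC.simple
  have h8 : Fintype.card (Fin 8) = 8 := Fintype.card_fin 8
  have hH : IsMaximalIn (omegaGL Qf) (m.hat A) := m.isMaximalIn h.max
  have hle : P ≤ omegaGL Qf := hP.le.trans hH.1.le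
  have hfix : FixesQuadForm (matrixSet P) Qf := by
    rintro _ ⟨x, hx, rfl⟩ v
    exact H917.Om.mem_omegaGL_fix (hle hx) v
  have hFQ : FixQ P := ⟨Qf, hQ, hfix⟩
  have hsd : SD P := H879.Nine.sd_of_fixQ hFQ
  have hS : HasSoc A (Soc P) := hasSoc_of_core m hP
  haveI := hs
  have hFilt : KFacts.RgdFilt.HasFilt p Q := by
    have h1 := hasFilt_orth hQ (by rw [h8]; norm_num) m
    rwa [ringChar.eq F p] at h1
  have hbig : ∀ {L : Type} [Group L], (Soc P ≃* L) → H284.Own.BigL p L → False := by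
    intro L _ e hb
    haveI : Finite L := Finite.of_equiv _ e.toEquiv
    haveI : IsSimpleGroup (Soc P) := hsC
    exact (hb.of_equiv e.symm).kill hFilt h hS
  have hcK : ∀ {K : Type} [Field K] [Fintype K], Nat.card F = Nat.card K → Fintype.card F = Fintype.card K := by
    intro K _ _ h1
    rwa [Nat.card_eq_fintype_card, Nat.card_eq_fintype_card] at h1
  rcases H905.Md.small_dc hC.absIrred.1 hC.perfect hL (by rw [h8]; norm_num) with h1 | h1 | h1 | h1 | h1 | h1 | h1 | h1 | h1 | h1 | h1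
  · -- `PSL`
    obtain ⟨K, i1, i2, i3, l, hl, hK, ⟨e⟩⟩ := h1
    rcases (show l = 1 ∨ l = 2 ∨ 3 ≤ l by omega) with rfl | rfl | hl3
    · by_cases hp2 : p = 2
      · subst hp2
        obtain ⟨s, n, hs0, hs1, hn2, hcard⟩ := H875.Psl2.exists_pow 2 hC e
        rw [h8] at hcard
        rcases H875.PslRows.pow_eight hs0 hn2 hcard with rfl | ⟨rfl, -⟩
        · rw [pow_one] at hs1
          have h4 : 4 ≤ Fintype.card K := by rw [← Nat.card_eq_fintype_card]; exact hK rfl
          have h5 := H36.EPL.card_le hg hs h h4 (hS.congr e)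
          have h6 := card_ge hQ hpl h8 m (le_refl (Fintype.card F))
          have h7 := lt_N8 (q := Fintype.card F) Fintype.one_lt_card
          rw [hs1] at h5
          omega
        · exact H682.EP.l2_cube h m h8 hQ hP hs1 e
      · have h2 : (2 : F) ≠ 0 := by
          intro h0
          have h1 : ((2 : ℕ) : F) = 0 := by exact_mod_cast h0
          rw [CharP.cast_eq_zero_iff F p 2, Nat.prime_dvd_prime_iff_eq hp.out Nat.prime_two] at h1
          exact hp2 h1
        exact H875.PslRows.omega_eight p h2 hQ h8 hH hP e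
    · by_cases h3 : 3 ≤ Fintype.card K
      · exact hbig e (H284.Own.bigL_PSL K (d := 3) le_rfl h3)
      · have hK2 : Fintype.card K = 2 := by
          have := Fintype.one_lt_card (α := K)
          omega
        obtain ⟨hFK, -⟩ := H911.Ad.sd_psl3 (p := p) hC hsd e (by rw [h8]; norm_num)
        have hF2 : Fintype.card F = 2 := by rw [hcK hFK, hK2]
        haveI : Fact (Nat.Prime 7) := ⟨by norm_num⟩
        obtain ⟨e'⟩ := Cfsg.Agent.S0255.result (F := ZMod 7) (K := K) (ZMod.card 7) hK2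
        obtain ⟨N, h1, h2, h3, ⟨f⟩⟩ := hS.congr (e.trans e'.symm)
        have h4 := (H689.EP.psl27 h h1 h2 (ZMod.card 7) f h3).2.1
        rw [card_two hQ hpl h8 m hF2] at h4
        omega
    · rcases (show l + 1 < 8 ∨ l + 1 = 8 ∨ 9 ≤ l + 1 by omega) with h1 | h1 | h1
      · have := (H887.DS.sd_of_psl p hC (m := l + 1) (by omega) (by rw [h8]; exact h1) (by rw [h8]; omega) e).2.1
        omega
      · have h2 := H905.Md.psl_eq p hC.absIrred hC.perfect hl hK e hC.no_subfield h1.symm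
        rw [h2.2] at hFQ
        exact H879.Nine.not_fixQ_sl (by norm_num) hFQ
      · have h2 := H905.Md.psl_rank p hC.absIrred hC.perfect hl hK e
        rw [h8] at h2
        omega
  · -- `PSp`
    obtain ⟨K, i1, i2, i3, n, hn, hn8, hK, ⟨e⟩⟩ := h1
    rw [h8] at hn8
    rcases (show n = 2 ∨ n = 3 ∨ n = 4 by omega) with rfl | rfl | rfl
    · obtain ⟨-, -, h1⟩ := H905.Sp4.core_psp4 (p := p) hC (by rw [Nat.card_eq_fintype_card]; exact hK rfl) e
        (by rw [h8]; norm_num)
      rw [h8] at h1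
      omega
    · by_cases h3 : 3 ≤ Fintype.card K
      · exact hbig e (H284.Own.bigL_PSp K (d := 3) (by norm_num) h3)
      · have hK2 : Fintype.card K = 2 := by
          have := Fintype.one_lt_card (α := K)
          omega
        obtain ⟨j, -, hj⟩ := H2.Rb.C650.exists_card p hC (l := 3) (by norm_num) (Or.inl le_rfl) e
        rw [Nat.card_eq_fintype_card, Nat.card_eq_fintype_card, hK2] at hj
        exact hSp hK2 (card_F_of_pow hj) (hS.congr e)
    · obtain ⟨-, h1⟩ := H925.Nat.psp (p := p) hC (by rw [h8]; norm_num) le_rfl (by norm_num) e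
      exact h1.sp_not_fixQ (by norm_num) hFQ
  · -- `PSU`
    obtain ⟨K, i1, i2, i3, N, q, hKq, hN, hN8, hq, ⟨e⟩⟩ := h1
    rcases (show N = 3 ∨ N = 4 ∨ 5 ≤ N by omega) with rfl | rfl | hN5
    · have hq3 : 3 ≤ q := by
        have h1 : 1 < Fintype.card K := Fintype.one_lt_card
        rw [hKq] at h1
        by_contra hcon
        have h4 : q ≠ 2 := fun h => hq ⟨rfl, h⟩
        interval_cases q <;> simp at h1 h4
      have hp3 : p ≠ 3 := by
        rcases H929.U3.core_psu3_sd p hC hq3 hKq e (by rw [h8]; norm_num) hsd with h6 | h6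
        · have := h6.2
          omega
        · exact h6.1
      exact H682.EP.adj_psu3 h m (by rw [h8]; norm_num) (by rw [h8]; norm_num) hQ hP p hp3 hKq hq3 e
    · have := H876.D3.core_psu_four p K (by rw [h8]; norm_num) hKq hC e
      rw [h8] at this
      omega
    · exact (H879.Nine.own_psu (p := p) (by norm_num) hC hsd hN5 hKq e).elim
  · obtain ⟨rfl, K, i1, i2, n, hn, hK, ⟨e⟩⟩ := h1
    exact H861.SzN.sz_false hC hn hK e (by rw [h8]; norm_num) (by rw [h8]; norm_num)
  · obtain ⟨rfl, K, i1, i2, n, hn, hK, ⟨e⟩⟩ := h1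
    have := H708.ReeSix.ree_eq_seven hC hn hK e (by rw [h8]; norm_num)
    omega
  · -- `PΩ` odd
    obtain ⟨K, i1, i2, i3, n, hn, hn8, hodd, ⟨e⟩⟩ := h1
    exact hbig e (H284.Own.bigL_POdd K (by omega) hodd)
  · -- `PΩ⁺`
    obtain ⟨K, i1, i2, i3, n, hn, hn8, ⟨e⟩⟩ := h1
    rw [h8] at hn8
    obtain rfl : n = 4 := by omega
    by_cases h3 : 3 ≤ Fintype.card K
    · exact hbig e (H284.Own.bigL_PPlus K (d := 4) (by norm_num) h3)
    · have hK2 : Fintype.card K = 2 := by
        have := Fintype.one_lt_card (α := K)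
        omega
      obtain ⟨j, -, hj⟩ := exists_card_plus hC p le_rfl e
      rw [Nat.card_eq_fintype_card, Nat.card_eq_fintype_card, hK2] at hj
      have hF2 := card_F_of_pow hj
      have h4 := card_lt_of_hasSoc h (hS.congr e)
      have h5 : Nat.card (POmega K (quadFormPlus 4 K)) = 174182400 := by
        have h6 := Cfsg.Agent.S0293.result (F := K) hK2 4 (by norm_num)
        have hg : Nat.gcd 4 (2 ^ 4 - 1) = 1 := by decide
        rw [hg] at h6
        simp only [show 4 - 1 = 3 by norm_num, Finset.prod_range_succ, Finset.prod_range_zero] at h6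
        norm_num at h6
        exact h6
      rw [h5, card_two hQ hpl h8 m hF2] at h4
      omega
  · -- `PΩ⁻`
    obtain ⟨K, i1, i2, i3, n, a, b, hn, hn8, hab, ⟨e⟩⟩ := h1
    rw [h8] at hn8
    rcases (show n = 4 ∨ n = 5 by omega) with rfl | rfl
    · by_cases h3 : 3 ≤ Fintype.card K
      · exact hbig e (H284.Own.bigL_PMinus K hab (d := 4 - 1) (by norm_num) h3)
      · have hK2 : Fintype.card K = 2 := by
          have := Fintype.one_lt_card (α := K)
          omega
        obtain ⟨j, -, hj⟩ := exists_card_minus hC p (l := 4 - 1) (by norm_num) a b hab e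
        rw [Nat.card_eq_fintype_card, Nat.card_eq_fintype_card, hK2] at hj
        rcases card_F_of_pow4 (q := Fintype.card F) (j := j) (by rw [hj]; norm_num) with hF | hF
        · have h4 := card_lt_of_hasSoc h (hS.congr e)
          have h5 : Nat.card (POmega K (quadFormMinus 3 K a b)) = 197406720 := by
            have h6 := Cfsg.Agent.S0294.result (F := K) hK2 4 (by norm_num) a b hab
            have hg : Nat.gcd 4 (2 ^ 4 + 1) = 1 := by decide
            rw [hg] at h6
            simp only [show 4 - 1 = 3 by norm_num, Finset.prod_range_succ, Finset.prod_range_zero] at h6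
            norm_num at h6
            exact h6
          rw [card_two hQ hpl h8 m hF] at h4
          have h7 : Nat.card (POmega K (quadFormMinus (4 - 1) K a b)) = 197406720 := h5
          rw [h7] at h4
          omega
        · exact hOm a b hab hK2 hF (hS.congr e)
    · obtain ⟨τ, h1⟩ := H925.Nat.po_minus (p := p) hC (by rw [h8]; norm_num) (m := 4) le_rfl (by norm_num) hab e
      have := h1.card_eq
      simp at this
  · obtain ⟨-, K, i1, i2, i3, hK, ⟨e⟩⟩ := h1
    have := (H927.G2.core_g2 p hC (by rw [Nat.card_eq_fintype_card]; exact hK) e (by rw [h8]; norm_num)).2.2.2.2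
    rw [h8] at this
    omega
  · obtain ⟨-, K, i1, i2, i3, q, hq, hK, ⟨e⟩⟩ := h1
    have h2 := (H392.TD.d4_small p hC hq hK e (by rw [h8]; norm_num)).2.1
    exact hTD hq hK (by rw [← Nat.card_eq_fintype_card]; exact h2) (hS.congr e)
  · obtain ⟨-, hp2, h1⟩ := h1
    have := H927.LDTwF4.card_le_iso hp2 hC.perfect h1
    rw [h8] at this
    omega

end Cfsg.Agent.H814.O8P
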