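import Cfsg.Agent.H814.O8P.Own
import Cfsg.Agent.H1.EP8.CrossKill
import Cfsg.Agent.H417.EP.ASixSoc
import Cfsg.Agent.H342.O8.Two
import Cfsg.Agent.H982.EP.OmRes

/-!
# S3499, the row `PΩ₈⁺(q)` (`RowPlus 8` of helper982) from the lists and cells (helper814)
-/

set_option autoImplicit false
set_option linter.unusedSectionVars false

namespace Cfsg.Agent.H814.O8P

open Cfsg Cfsg.Geo Module Matrix Cfsg.Agent.H915.LD Cfsg.Agent.H419.EP Cfsg.Agent.H284
open scoped MatrixGroups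

/-- the cell `³D₄(q₀)` (`H476.EPX.no_td4'`) -/
def KillTD : Prop := ∀ {Q : Type} [Group Q] [Finite Q] {A : Subgroup Q} {Γ : Subgroup (MulAut Q)}, EPT A Γ →
  ∀ {F : Type} [Field F] [Fintype F] {Qf : (Fin 8 → F) → F}, IsNondegenerateQuadraticForm Qf →
  ∀ (_ : Model Q (omegaGL Qf)) {q₀ : ℕ}, IsPrimePow q₀ → ∀ {K : Type} [Field K] [Fintype K],
  Fintype.card K = q₀ ^ 3 → Fintype.card F = q₀ ^ 3 → HasSoc A (Lie.twistedD4 K q₀) → False

/-- the cell `Ω₈⁻(2) < Ω₈⁺(4)` -/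
def KillOm : Prop := ∀ {Q : Type} [Group Q] [Finite Q], IsSimpleGroup Q → ∀ {A : Subgroup Q}
  {Γ : Subgroup (MulAut Q)}, EPT A Γ → ∀ {F : Type} [Field F] [Fintype F] {Qf : (Fin 8 → F) → F},
  IsNondegenerateQuadraticForm Qf → IsPlusTypeOn Qf ⊤ → ∀ (_ : Model Q (omegaGL Qf)) {K : Type} [Field K] [Fintype K]
  (a b : K), (∀ z₁ z₂ : K, z₁ ^ 2 + a * z₁ * z₂ + b * z₂ ^ 2 = 0 → z₁ = 0 ∧ z₂ = 0) → Fintype.card K = 2 →
  Fintype.card F = 4 → HasSoc A (POmega K (quadFormMinus 3 K a b)) → False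

/-- **the row `PΩ₈⁺(q)`** -/
theorem rowPlus_eight_of (hg : H59.EP.TwoGen.{0}) (h56 : H84.EP.Res56) (hBr : H839.EP.Br) (hO8 : H1.EP8.KillO8)
    (hTD : KillTD) (hOm : KillOm) (hk : ∀ (T : Type) [Group T] [Finite T] [IsSimpleGroup T], IsKnownSimple' T) :
    H982.EP.RowPlus 8 := by
  intro Q _ _ hs A Γ h F _ _ Qf m nd plus hres
  obtain ⟨P, hP, -⟩ := hres
  obtain ⟨p, hpF⟩ := CharP.exists F
  haveI : Fact p.Prime := ⟨CharP.char_is_prime F p⟩
  have hC := core_of_residual hP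
  have hsC := hC.simple
  by_cases hL : IsLieTypeChar p (Soc P)
  · refine own p hg hs h m nd plus hP hL (fun hq hK hF hS => hTD h nd m hq hK hF hS) ?_ ?_
    · intro K _ _ hK hF hS
      obtain ⟨e⟩ := H1.EP8.exists_equiv nd plus (Fintype.card_fin 8) m
      exact H342.EP8.o8two h56 h e hF hS hK
    · intro K _ _ a b hab hK hF hS
      exact hOm hs h nd plus m a b hab hK hF hS
  · refine H1.EP8.cross_kill p hg h56 hBr hO8 hs h (Fintype.card_fin 8) nd plus m hP (hk _) hL ?_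
    intro hF hS
    exact H417.EP.Six.false_of_le h hS (by rw [card_two nd plus (Fintype.card_fin 8) m hF]; norm_num)

end Cfsg.Agent.H814.O8P
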